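import Groth.Agent.FlatLib.FlatMisc
import Mathlib.RingTheory.Ideal.Maps

/-!
# `Tor₁(R/I, M) ⊗ R' → Tor₁(R'/IR', R' ⊗ M)` is surjective when `M/IM` is flat over `R/I`
-/

set_option autoImplicit false
set_option backward.isDefEq.respectTransparency false
universe u
open TensorProduct

namespace FlatTorLib

variable {R : Type u} [CommRing R] (R' : Type u) [CommRing R'] [Algebra R R'] (I : Ideal R)

/-- `R' ⊗ I → IR'`. -/
noncomputable def extIdeal : R' ⊗[R] I →ₗ[R'] (I.map (algebraMap R R') : Ideal R') :=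
  (Algebra.idealMap R' I).liftBaseChange R'

theorem extIdeal_surjective : Function.Surjective (extIdeal R' I) := by
  rintro ⟨y, hy⟩
  induction hy using Submodule.span_induction with
  | mem y hy =>
    obtain ⟨a, ha, rfl⟩ := hy
    refine ⟨1 ⊗ₜ ⟨a, ha⟩, Subtype.ext ?_⟩
    show ((1 : R') • Algebra.idealMap R' I ⟨a, ha⟩ : R') = algebraMap R R' a
    rw [one_smul]; rfl
  | zero => exact ⟨0, map_zero _⟩
  | add y z _ _ hy hz =>
    obtain ⟨a, ha⟩ := hy
    obtain ⟨b, hb⟩ := hz
    exact ⟨a + b, by rw [map_add, ha, hb]; rfl⟩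
  | smul c y _ hy =>
    obtain ⟨a, ha⟩ := hy
    exact ⟨c • a, by rw [map_smul, ha]; rfl⟩

variable (M : Type u) [AddCommGroup M] [Module R M]

/-- `I ⊗ M → M`. -/
noncomputable def mulMap : I ⊗[R] M →ₗ[R] M :=
  (TensorProduct.lid R M).toLinearMap ∘ₗ LinearMap.rTensor M (Submodule.subtype I)

/-- `R' ⊗ (I ⊗ M) → IR' ⊗ M`. -/
noncomputable def extMap : R' ⊗[R] (I ⊗[R] M) →ₗ[R] (I.map (algebraMap R R') : Ideal R') ⊗[R] M :=
  LinearMap.rTensor M ((extIdeal R' I).restrictScalars R) ∘ₗ (TensorProduct.assoc R R' I M).symm.toLinearMap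

theorem extMap_surjective : Function.Surjective (extMap R' I M) :=
  (LinearMap.rTensor_surjective M (g := (extIdeal R' I).restrictScalars R) (extIdeal_surjective R' I)).comp
    (TensorProduct.assoc R R' I M).symm.surjective

theorem subtype_comp_extMap :
    LinearMap.rTensor M ((Submodule.subtype (I.map (algebraMap R R') : Ideal R')).restrictScalars R) ∘ₗ extMap R' I M =
      LinearMap.lTensor R' (mulMap I M) := by
  refine TensorProduct.ext' fun r x => ?_
  induction x using TensorProduct.induction_on with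
  | zero => simp
  | add x y hx hy => simp only [tmul_add, map_add, hx, hy]
  | tmul a m =>
    show (r * algebraMap R R' (a : R)) ⊗ₜ[R] m = r ⊗ₜ[R] ((a : R) • m)
    rw [← smul_tmul, Algebra.smul_def, mul_comm]

theorem extMap_natural {N : Type u} [AddCommGroup N] [Module R N] (π : N →ₗ[R] M) :
    extMap R' I M ∘ₗ LinearMap.lTensor R' (LinearMap.lTensor I π) =
      LinearMap.lTensor ↥(I.map (algebraMap R R')) π ∘ₗ extMap R' I N := by
  refine TensorProduct.ext' fun r x => ?_
  induction x using TensorProduct.induction_on with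
  | zero => simp
  | add x y hx hy => simp only [tmul_add, map_add, hx, hy]
  | tmul a m => simp [extMap]

/-- Flatness of the cokernel modulo `I` keeps injectivity after any base change. -/
theorem lTensor_injective_of_flat_coker {L F P : Type u} [AddCommGroup L] [AddCommGroup F] [AddCommGroup P]
    [Module R L] [Module R F] [Module (R ⧸ I) L] [Module (R ⧸ I) F] [Module (R ⧸ I) P]
    [IsScalarTower R (R ⧸ I) L] [IsScalarTower R (R ⧸ I) F] [Module.Flat (R ⧸ I) P]
    (f : L →ₗ[R ⧸ I] F) (g : F →ₗ[R ⧸ I] P) (hf : Function.Injective f) (hex : Function.Exact f g)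
    (hg : Function.Surjective g) : Function.Injective (LinearMap.lTensor R' (f.restrictScalars R)) := by
  have h := FlatLib.lTensor_injective_of_flat_coker f g hf hex hg ((R ⧸ I) ⊗[R] R')
  let e₁ := AlgebraTensorModule.cancelBaseChange R (R ⧸ I) (R ⧸ I) L R'
  let e₂ := AlgebraTensorModule.cancelBaseChange R (R ⧸ I) (R ⧸ I) F R'
  have hcomm : ∀ z, LinearMap.rTensor R' (f.restrictScalars R) z =
      e₂ (LinearMap.rTensor ((R ⧸ I) ⊗[R] R') f (e₁.symm z)) := by
    intro z
    induction z using TensorProduct.induction_on with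
    | zero => simp
    | tmul x y => simp [e₁, e₂]
    | add x y hx hy => simp only [map_add, hx, hy]
  rw [LinearMap.lTensor_inj_iff_rTensor_inj]
  intro z w hzw
  rw [hcomm, hcomm] at hzw
  exact e₁.symm.injective (h (e₂.injective hzw))

theorem exists_lift_ker {A B : Type u} [AddCommGroup A] [Module R A] [AddCommGroup B] [Module R B]
    (Q : Type u) [AddCommGroup Q] [Module R Q] (p : A →ₗ[R] B) (hp : Function.Surjective p) (κ : Q ⊗[R] A)
    (h : LinearMap.lTensor Q p κ = 0) :
    ∃ η : Q ⊗[R] LinearMap.ker p, LinearMap.lTensor Q (LinearMap.ker p).subtype η = κ :=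
  (lTensor_exact Q (f := (LinearMap.ker p).subtype) (LinearMap.exact_subtype_ker_map p) hp κ).mp h

theorem exists_ker_extMap_aux [Module.Flat (R ⧸ I) ((R ⧸ I) ⊗[R] M)] {F : Type u} [AddCommGroup F]
    [Module R F] [Module.Flat R F] (π : F →ₗ[R] M) (hπ : Function.Surjective π)
    (v : (I.map (algebraMap R R') : Ideal R') ⊗[R] M)
    (hv : LinearMap.rTensor M ((Submodule.subtype (I.map (algebraMap R R') : Ideal R')).restrictScalars R) v = 0) :
    ∃ w : R' ⊗[R] LinearMap.ker (mulMap I M),
      extMap R' I M (LinearMap.lTensor R' (LinearMap.ker (mulMap I M)).subtype w) = v := by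
  obtain ⟨z, rfl⟩ := extMap_surjective R' I M v
  rw [← LinearMap.comp_apply, subtype_comp_extMap] at hv
  obtain ⟨z', rfl⟩ := LinearMap.lTensor_surjective R' (LinearMap.lTensor_surjective I hπ) z
  have hμ : mulMap I M ∘ₗ LinearMap.lTensor I π = π ∘ₗ mulMap I F :=
    TensorProduct.ext' fun a x => by simp [mulMap]
  let K := LinearMap.ker π
  have hKex : Function.Exact K.subtype π := LinearMap.exact_subtype_ker_map π
  obtain ⟨κ, hκ⟩ := (lTensor_exact R' (M := K) hKex hπ
    (LinearMap.lTensor R' (mulMap I F) z')).mp (by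
      rw [← LinearMap.lTensor_comp_apply, ← hμ, LinearMap.lTensor_comp_apply]; exact hv)
  -- modulo `I`
  let πb : (R ⧸ I) ⊗[R] F →ₗ[(R ⧸ I)] (R ⧸ I) ⊗[R] M := π.baseChange (R ⧸ I)
  have hπb : Function.Surjective πb := LinearMap.lTensor_surjective (R ⧸ I) hπ
  let L := LinearMap.ker πb
  have hLex : Function.Exact L.subtype πb := LinearMap.exact_subtype_ker_map πb
  have hLinj := lTensor_injective_of_flat_coker R' I (L := L) (F := (R ⧸ I) ⊗[R] F) (P := (R ⧸ I) ⊗[R] M) L.subtype πb
    L.injective_subtype hLex hπb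
  let q : F →ₗ[R] (R ⧸ I) ⊗[R] F := TensorProduct.mk R (R ⧸ I) F 1
  have hqL : ∀ k : K, q k ∈ L := fun k => by
    show πb (1 ⊗ₜ[R] (k : F)) = 0
    rw [LinearMap.baseChange_tmul, LinearMap.mem_ker.mp k.2, tmul_zero]
  let L₀ : Submodule R ((R ⧸ I) ⊗[R] F) := L.restrictScalars R
  have hLinj₀ : Function.Injective (LinearMap.lTensor R' L₀.subtype) := hLinj
  let p : K →ₗ[R] L₀ := (q.comp K.subtype).codRestrict L₀ hqL
  have hqμ : q ∘ₗ mulMap I F = 0 := TensorProduct.ext' fun a x => by
    show (1 : (R ⧸ I)) ⊗ₜ[R] mulMap I F (a ⊗ₜ x) = 0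
    simp only [mulMap, LinearMap.coe_comp, Function.comp_apply, LinearMap.rTensor_tmul,
      LinearEquiv.coe_coe, TensorProduct.lid_tmul, Submodule.subtype_apply]
    rw [← smul_tmul, Algebra.smul_def, Ideal.Quotient.algebraMap_eq,
      Ideal.Quotient.eq_zero_iff_mem.mpr a.2, zero_mul, zero_tmul]
  have hp : Function.Surjective p := by
    rintro ⟨l, hl⟩
    obtain ⟨t, ht⟩ := (lTensor_exact (R ⧸ I) (M := K) hKex hπ l).mp hl
    obtain ⟨k, hk⟩ : ∃ k : K, (1 : (R ⧸ I)) ⊗ₜ[R] k = t := TensorProduct.mk_surjective R K (R ⧸ I) Ideal.Quotient.mk_surjective t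
    exact ⟨k, Subtype.ext (show (1 : (R ⧸ I)) ⊗ₜ[R] (k : F) = l by rw [← ht, ← hk]; rfl)⟩
  have hpκ : LinearMap.lTensor R' p κ = 0 := hLinj₀ (by
    rw [map_zero, ← LinearMap.lTensor_comp_apply,
      show L₀.subtype.comp p = q.comp K.subtype from LinearMap.ext fun _ => rfl,
      LinearMap.lTensor_comp_apply, hκ, ← LinearMap.lTensor_comp_apply, hqμ, LinearMap.lTensor_zero,
      LinearMap.zero_apply])
  let K₀ : Submodule R K := LinearMap.ker p
  have h1 := exists_lift_ker (A := K) (B := L₀) R' p hp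
  obtain ⟨η, hη⟩ := h1 κ hpκ
  let P := LinearMap.ker (π ∘ₗ mulMap I F)
  let ρ₀ : P →ₗ[R] K := (mulMap I F).restrict fun x hx => hx
  let ρ : P →ₗ[R] K₀ := ρ₀.codRestrict _ fun x => Subtype.ext (LinearMap.congr_fun hqμ x.1)
  have hρ : Function.Surjective ρ := by
    rintro ⟨⟨k, hk⟩, hpk⟩
    have h1 : LinearMap.rTensor F ((I : Submodule R R).mkQ) ((1 : R) ⊗ₜ[R] k) = 0 := congrArg Subtype.val hpk
    obtain ⟨t, ht⟩ := (rTensor_exact F (LinearMap.exact_subtype_mkQ (I : Submodule R R))
      (Submodule.mkQ_surjective _) _).mp h1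
    have htk : mulMap I F t = k := by
      show TensorProduct.lid R F (LinearMap.rTensor F (Submodule.subtype I) t) = k
      rw [ht, TensorProduct.lid_tmul, one_smul]
    refine ⟨⟨t, ?_⟩, Subtype.ext (Subtype.ext htk)⟩
    show π (mulMap I F t) = 0
    rw [htk]; exact hk
  obtain ⟨η', rfl⟩ := LinearMap.lTensor_surjective R' hρ η
  let σ : P →ₗ[R] LinearMap.ker (mulMap I M) := (LinearMap.lTensor I π).restrict fun x hx => by
    show mulMap I M (LinearMap.lTensor I π x) = 0
    rw [← LinearMap.comp_apply, hμ]; exact hx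
  refine ⟨LinearMap.lTensor R' σ η', ?_⟩
  have hd : LinearMap.lTensor R' (mulMap I F) (LinearMap.lTensor R' P.subtype η') =
      LinearMap.lTensor R' (mulMap I F) z' := by
    rw [← hκ, ← hη, ← LinearMap.lTensor_comp_apply, ← LinearMap.lTensor_comp_apply, ← LinearMap.lTensor_comp_apply]
    rfl
  have hinj : Function.Injective (LinearMap.rTensor F
      ((Submodule.subtype (I.map (algebraMap R R') : Ideal R')).restrictScalars R)) :=
    Module.Flat.rTensor_preserves_injective_linearMap _ Subtype.val_injective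
  have hsub : ∀ y, LinearMap.rTensor F
      ((Submodule.subtype (I.map (algebraMap R R') : Ideal R')).restrictScalars R) (extMap R' I F y) =
      LinearMap.lTensor R' (mulMap I F) y := fun y => LinearMap.congr_fun (subtype_comp_extMap R' I F) y
  have hF : extMap R' I F (LinearMap.lTensor R' P.subtype η') = extMap R' I F z' :=
    hinj (((hsub _).trans hd).trans (hsub z').symm)
  have hnat : ∀ y, extMap R' I M (LinearMap.lTensor R' (LinearMap.lTensor I π) y) =
      LinearMap.lTensor _ π (extMap R' I F y) := fun y => LinearMap.congr_fun (extMap_natural R' I M π) y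
  have hσ : LinearMap.lTensor R' (LinearMap.ker (mulMap I M)).subtype (LinearMap.lTensor R' σ η') =
      LinearMap.lTensor R' (LinearMap.lTensor I π) (LinearMap.lTensor R' P.subtype η') := by
    rw [← LinearMap.lTensor_comp_apply, ← LinearMap.lTensor_comp_apply]
    exact congrArg (fun φ : P →ₗ[R] I ⊗[R] M => LinearMap.lTensor R' φ η') (LinearMap.ext fun _ => rfl)
  rw [hσ, hnat, hF, hnat]

/-- If `M/IM` is flat over `R/I`, the kernel of `IR' ⊗ M → R' ⊗ M` comes from the kernel of `I ⊗ M → M`. -/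
theorem exists_ker_extMap [Module.Flat (R ⧸ I) ((R ⧸ I) ⊗[R] M)]
    (v : (I.map (algebraMap R R') : Ideal R') ⊗[R] M)
    (hv : LinearMap.rTensor M ((Submodule.subtype (I.map (algebraMap R R') : Ideal R')).restrictScalars R) v = 0) :
    ∃ w : R' ⊗[R] LinearMap.ker (mulMap I M),
      extMap R' I M (LinearMap.lTensor R' (LinearMap.ker (mulMap I M)).subtype w) = v :=
  exists_ker_extMap_aux R' I M (Finsupp.linearCombination R (id : M → M))
    (fun m => ⟨Finsupp.single m 1, by rw [Finsupp.linearCombination_single]; exact one_smul R m⟩) v hv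

end FlatTorLib
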