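import Groth.Agent.FlatTorLib.Basic
import Groth.Agent.FlatBCLib.Basic
import Groth.Agent.FlatCrit.Basic
import Mathlib.RingTheory.Localization.BaseChange
import Mathlib.RingTheory.IsTensorProduct

/-!
# Flatness after a localized base change when the `Tor₁`-map vanishes
-/

set_option autoImplicit false
set_option backward.isDefEq.respectTransparency false
set_option backward.isDefEq.respectTransparency.types false
set_option linter.style.haveILetI false
universe u
open TensorProduct

namespace FlatTorLib

/-- Injectivity of `M' ⊗ f₀` for a localization `g : N → M'`. -/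
theorem injective_lTensor_of_localized {A T : Type u} [CommRing A] [CommRing T] [Algebra A T]
    {N M' : Type u} [AddCommGroup N] [Module T N] [Module A N] [IsScalarTower A T N]
    [AddCommGroup M'] [Module T M'] [Module A M'] [IsScalarTower A T M']
    (W : Submonoid T) (g : N →ₗ[T] M') [IsLocalizedModule W g]
    {X Y : Type u} [AddCommGroup X] [Module A X] [AddCommGroup Y] [Module A Y] (f₀ : X →ₗ[A] Y)
    (h : ∀ u : N ⊗[A] X, LinearMap.lTensor N f₀ u = 0 → LinearMap.rTensor X (g.restrictScalars A) u = 0) :
    Function.Injective (LinearMap.lTensor M' f₀) := by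
  let gX := AlgebraTensorModule.rTensor A X g
  let gY := AlgebraTensorModule.rTensor A Y g
  let lN := AlgebraTensorModule.lTensor T N f₀
  let lM := AlgebraTensorModule.lTensor T M' f₀
  have hcomm : ∀ u, lM (gX u) = gY (lN u) := fun u => by
    induction u using TensorProduct.induction_on with
    | zero => simp
    | add a b ha hb => simp only [map_add, ha, hb]
    | tmul a b => rfl
  refine (injective_iff_map_eq_zero _).mpr fun z hz => ?_
  obtain ⟨⟨u, w⟩, hw⟩ := IsLocalizedModule.surj W gX z
  change w • z = gX u at hw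
  have h0 : gY (lN u) = 0 := by
    rw [← hcomm, ← hw, Submonoid.smul_def, map_smul]
    exact (congrArg ((w : T) • ·) hz).trans (smul_zero _)
  obtain ⟨c, hc⟩ := (IsLocalizedModule.eq_zero_iff W gY).mp h0
  have h1 : gX (c • u) = 0 := h _ (by
    show lN (c • u) = 0
    rw [Submonoid.smul_def, map_smul]; exact hc)
  rw [Submonoid.smul_def, map_smul, ← hw, ← Submonoid.smul_def] at h1
  exact IsLocalizedModule.smul_injective gX w
    (IsLocalizedModule.smul_injective gX c (h1.trans (smul_zero c).symm) |>.trans (smul_zero w).symm)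

variable (R S R' S' : Type u) [CommRing R] [CommRing S] [CommRing R'] [CommRing S']
  [IsNoetherianRing R'] [IsNoetherianRing S']
  [Algebra R S] [Algebra R R'] [Algebra S S'] [Algebra R' S'] [Algebra R S']
  [IsScalarTower R S S'] [IsScalarTower R R' S']
  (I : Ideal R) (M : Type u) [AddCommGroup M] [Module S M] [Module R M] [IsScalarTower R S M]
  [Module.Finite S M]
  (M' : Type u) [AddCommGroup M'] [Module S' M'] [Module R' M'] [IsScalarTower R' S' M']
  [Module S M'] [IsScalarTower S S' M'] [Module R M'] [IsScalarTower R R' M'] [IsScalarTower R S M']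
  (f : M →ₗ[S] M') (hf : IsBaseChange S' f)

include hf in
theorem flat_of_tor_map_zero
    (h1 : ∃ W : Submonoid (S ⊗[R] R'),
      letI : Algebra (S ⊗[R] R') S' :=
        (Algebra.TensorProduct.lift (IsScalarTower.toAlgHom R S S') (IsScalarTower.toAlgHom R R' S')
          (fun s r => Commute.all _ _)).toRingHom.toAlgebra;
      IsLocalization W S')
    (hjac : ((I.map (algebraMap R R')).map (algebraMap R' S')) ≤ Ideal.jacobson ⊥)
    (h2 : Module.Flat (R ⧸ I) ((R ⧸ I) ⊗[R] M))
    (h3 : ∀ x : ↥I ⊗[R] M, (Submodule.subtype I).rTensor M x = 0 →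
      (TensorProduct.mapOfCompatibleSMul R' R R ↥(I.map (algebraMap R R')) M')
        ((TensorProduct.map (Algebra.idealMap R' I) (f.restrictScalars R)) x) = 0) :
    Module.Flat R' M' := by
  obtain ⟨W, hW⟩ := h1
  letI : Algebra R' (S ⊗[R] R') := Algebra.TensorProduct.rightAlgebra
  haveI : IsScalarTower R R' (S ⊗[R] R') := Algebra.TensorProduct.right_isScalarTower
  letI : Algebra (S ⊗[R] R') S' :=
    (Algebra.TensorProduct.lift (IsScalarTower.toAlgHom R S S') (IsScalarTower.toAlgHom R R' S')
      (fun s r => Commute.all _ _)).toRingHom.toAlgebra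
  haveI : IsLocalization W S' := hW
  haveI : IsScalarTower S (S ⊗[R] R') S' := IsScalarTower.of_algebraMap_eq fun s => by
    simp [RingHom.algebraMap_toAlgebra]
  haveI : IsScalarTower R' (S ⊗[R] R') S' := IsScalarTower.of_algebraMap_eq fun s => by
    simp [RingHom.algebraMap_toAlgebra]
  haveI : Algebra.IsPushout R R' S (S ⊗[R] R') := Algebra.IsPushout.symm inferInstance
  letI : Module (S ⊗[R] R') M' := Module.compHom M' (algebraMap (S ⊗[R] R') S')
  haveI : IsScalarTower (S ⊗[R] R') S' M' := IsScalarTower.of_algebraMap_smul fun _ _ => rfl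
  haveI : IsScalarTower S (S ⊗[R] R') M' := IsScalarTower.of_algebraMap_smul fun s m => by
    rw [← algebraMap_smul S' (algebraMap S (S ⊗[R] R') s) m, ← IsScalarTower.algebraMap_apply, algebraMap_smul]
  haveI : IsScalarTower R' (S ⊗[R] R') M' := IsScalarTower.of_algebraMap_smul fun s m => by
    rw [← algebraMap_smul S' (algebraMap R' (S ⊗[R] R') s) m, ← IsScalarTower.algebraMap_apply, algebraMap_smul]
  haveI : SMulCommClass S R' (S ⊗[R] R') := ⟨fun a b x => by
    simp only [Algebra.smul_def]; exact mul_left_comm _ _ _⟩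
  let N := (S ⊗[R] R') ⊗[S] M
  haveI : IsScalarTower R' (S ⊗[R] R') N := inferInstance
  let hh := TensorProduct.isBaseChange S M (S ⊗[R] R')
  let g : N →ₗ[S ⊗[R] R'] M' := hh.lift f
  have hg1 : ∀ m : M, g (1 ⊗ₜ m) = f m := fun m => hh.lift_eq f m
  have hg : IsBaseChange S' g := IsBaseChange.of_comp hh (by
    convert! hf using 1
    exact LinearMap.ext hg1)
  haveI : IsLocalizedModule W g := (isLocalizedModule_iff_isBaseChange W S' g).mpr hg
  let e : N ≃ₗ[R'] R' ⊗[R] M := Algebra.IsPushout.cancelBaseChange R R' S (S ⊗[R] R') M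
  have he : ∀ m : M, e.symm (1 ⊗ₜ m) = 1 ⊗ₜ m := fun m =>
    (Algebra.IsPushout.cancelBaseChange_symm_tmul R R' S (S ⊗[R] R') M 1 m).trans (by rw [map_one])
  -- `N ⊗ X = X ⊗ M`
  have E : ∀ (X : Type u) [AddCommGroup X] [Module R' X] [Module R X] [IsScalarTower R R' X],
      ∃ ε : X ⊗[R] M ≃ₗ[R'] N ⊗[R'] X, ∀ x m, ε (x ⊗ₜ m) = (1 ⊗ₜ m) ⊗ₜ x := by
    intro X _ _ _ _
    refine ⟨(AlgebraTensorModule.cancelBaseChange R R' R' X M).symm ≪≫ₗ TensorProduct.comm R' X (R' ⊗[R] M) ≪≫ₗ
      TensorProduct.congr e.symm (LinearEquiv.refl R' X), fun x m => ?_⟩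
    simp [he]
  have key : ∀ {X Y : Type u} [AddCommGroup X] [Module R' X] [Module R X] [IsScalarTower R R' X]
      [AddCommGroup Y] [Module R' Y] [Module R Y] [IsScalarTower R R' Y] (f₀ : X →ₗ[R'] Y)
      (ε : X ⊗[R] M ≃ₗ[R'] N ⊗[R'] X) (_ : ∀ x m, ε (x ⊗ₜ m) = (1 ⊗ₜ m) ⊗ₜ x),
      (∀ v : X ⊗[R] M, LinearMap.rTensor M (f₀.restrictScalars R) v = 0 →
        LinearMap.rTensor X (g.restrictScalars R') (ε v) = 0) →
      Function.Injective (LinearMap.lTensor M' f₀) := by
    intro X Y _ _ _ _ _ _ _ _ f₀ ε hε hX
    refine injective_lTensor_of_localized W g f₀ fun u hu => ?_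
    obtain ⟨εY, hεY⟩ := E Y
    obtain ⟨v, rfl⟩ := ε.surjective u
    refine hX v (εY.injective ?_)
    rw [map_zero, ← hu]
    clear hu
    induction v using TensorProduct.induction_on with
    | zero => simp
    | add a b ha hb => simp only [map_add, ha, hb]
    | tmul a b => simp [hε, hεY]
  let I' : Ideal R' := I.map (algebraMap R R')
  haveI : Module.Finite S' M' := Module.Finite.equiv hf.equiv
  refine FlatCrit.flat_of_injective_of_flat_quotient (S := S') (M := M') I' hjac ?_ ?_
  · -- `I' ⊗ M' → M'` is injective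
    obtain ⟨ε, hε⟩ := E ↥I'
    refine key (Submodule.subtype I') ε hε fun v hv => ?_
    obtain ⟨w, rfl⟩ := exists_ker_extMap R' I M v hv
    clear hv
    induction w using TensorProduct.induction_on with
    | zero => simp
    | add a b ha hb => simp only [map_add, ha, hb, add_zero]
    | tmul r k =>
      have hk : (Submodule.subtype I).rTensor M (k : ↥I ⊗[R] M) = 0 :=
        (TensorProduct.lid R M).injective (k.2.trans (map_zero _).symm)
      have hgen : ∀ x : ↥I ⊗[R] M,
          LinearMap.rTensor I' (g.restrictScalars R') (ε (extMap R' I M (r ⊗ₜ x))) =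
            r • TensorProduct.comm R' ↥I' M' (TensorProduct.mapOfCompatibleSMul R' R R ↥I' M'
              (TensorProduct.map (Algebra.idealMap R' I) (f.restrictScalars R) x)) := by
        intro x
        induction x using TensorProduct.induction_on with
        | zero => simp
        | add a b ha hb => simp only [tmul_add, map_add, ha, hb, smul_add]
        | tmul a m =>
          show LinearMap.rTensor I' (g.restrictScalars R') (ε ((r • Algebra.idealMap R' I a) ⊗ₜ m)) =
            r • (f m ⊗ₜ[R'] Algebra.idealMap R' I a)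
          rw [hε, LinearMap.rTensor_tmul, LinearMap.restrictScalars_apply, hg1]
          exact tmul_smul r (f m) _
      rw [LinearMap.lTensor_tmul, Submodule.subtype_apply, hgen, h3 _ hk, map_zero, smul_zero]
  · -- `M'/I'M'` is flat over `R'/I'`
    refine FlatBCLib.flat_of_rTensor_injective fun b => ?_
    rw [← LinearMap.lTensor_inj_iff_rTensor_inj]
    obtain ⟨ε, hε⟩ := E ↥b
    refine key ((Submodule.subtype b).restrictScalars R') ε hε fun v hv => ?_
    have hkill : ∀ r ∈ I, ∀ y : R' ⧸ I', r • y = 0 := fun r hr y => by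
      rw [Algebra.smul_def, IsScalarTower.algebraMap_apply R R' (R' ⧸ I'), Ideal.Quotient.algebraMap_eq,
        Ideal.Quotient.eq_zero_iff_mem.mpr (Ideal.mem_map_of_mem _ hr), zero_mul]
    have hinj := FlatBCLib.rTensor_injective_of_smul_eq_zero (M := M) (I := I)
      (fun r hr x => Subtype.ext (hkill r hr x.1)) hkill
      (((Submodule.subtype b).restrictScalars R').restrictScalars R) Subtype.val_injective
    rw [hinj (hv.trans (map_zero _).symm), map_zero, map_zero]

end FlatTorLib
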